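import Cfsg.Agent.GH.Q.Main
import Cfsg.Agent.GH.Q2.Main
import Cfsg.Agent.GH.QB.ModelG2
import Cfsg.Agent.S1173

/-!
# GH-Q: the final theorem of the branch

`main` : `Hyp G`, all 2-components of involution centralizers with even centre are of type `QT`, and there is
one: then `G` is one of the targets.
-/

set_option autoImplicit false

open Cfsg Subgroup
open Cfsg.Agent.GH.Defs

namespace Cfsg.Agent.GH.Q.Full

variable {G : Type*} [Group G] [Finite G]

/-- **GH-Q** -/
theorem main (h : Hyp G)
    (hqt : ∀ (x : G) (K : Subgroup G), Comp2 x K → EvenCenter K → QA.QT K)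
    {x : G} {K : Subgroup G} (c : Comp2 x K) (he : EvenCenter K) : GType G :=
  Main.main_of h (fun S T hT => S1173.result h.oddCore_eq_bot S T hT)
    (fun ⟨_, _, _, hK, hL, hx, hx', hne⟩ => Q2.gtype h hqt hK hL hne hx hx')
    (fun _ _ _ _ _ hS => QB.typeG2_of_TG2 hS) hqt c he

end Cfsg.Agent.GH.Q.Full
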